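import Mathlib
import Groth.Agent.RegLocal.Serre
import Groth.Agent.PdFlat.Main
import Groth.Agent.CAlgBasics.FlatAux
import Groth.Agent.LeftInvLib.Basic
import Groth.Agent.FlatDepth.Basic

/-!
Projective dimension of modules flat over the base and of their closed fibres (EGA IV 0 17.3).
-/

set_option autoImplicit false
set_option linter.style.haveILetI false
set_option backward.isDefEq.respectTransparency false
set_option maxHeartbeats 800000

universe u

open TensorProduct CategoryTheory IsLocalRing

namespace Groth.Agent.FibPdLib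

variable {A B : Type u} [CommRing A] [CommRing B] [Algebra A B]

local notation "Q" I => B ⧸ Ideal.map (algebraMap A B) I

theorem tmul_one_eq_zero_iff {J : Ideal B} {X : Type u} [AddCommGroup X] [Module B X] (x : X) :
    (1 : B ⧸ J) ⊗ₜ[B] x = 0 ↔ x ∈ (J • ⊤ : Submodule B X) := by
  rw [← (TensorProduct.quotTensorEquivQuotSMul X J).map_eq_zero_iff, show (1 : B ⧸ J) = Ideal.Quotient.mk J 1 from rfl,
    TensorProduct.quotTensorEquivQuotSMul_mk_tmul, one_smul, Submodule.Quotient.mk_eq_zero]

theorem exists_one_tmul {J : Ideal B} {X : Type u} [AddCommGroup X] [Module B X] (z : (B ⧸ J) ⊗[B] X) :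
    ∃ x : X, (1 : B ⧸ J) ⊗ₜ[B] x = z :=
  TensorProduct.mk_surjective B X (B ⧸ J) Ideal.Quotient.mk_surjective z

theorem fib_injective {M K F : Type u} [AddCommGroup M] [Module B M] [Module A M] [IsScalarTower A B M]
    [AddCommGroup K] [Module B K] [Module A K] [IsScalarTower A B K]
    [AddCommGroup F] [Module B F] [Module A F] [IsScalarTower A B F] [Module.Flat A M] (I : Ideal A)
    (f : K →ₗ[B] F) (g : F →ₗ[B] M) (hf : Function.Injective f) (hg : Function.Surjective g)
    (hfg : Function.Exact f g) : Function.Injective (f.baseChange (Q I)) := by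
  rw [injective_iff_map_eq_zero]
  intro z hz
  obtain ⟨x, rfl⟩ := exists_one_tmul z
  rw [LinearMap.baseChange_tmul, tmul_one_eq_zero_iff] at hz
  rw [tmul_one_eq_zero_iff]
  have h1 : f x ∈ (I • ⊤ : Submodule A F) := by
    rw [← Submodule.restrictScalars_top A B F, ← Ideal.smul_restrictScalars]
    exact hz
  suffices h2 : x ∈ (I • ⊤ : Submodule A K) by
    rw [← Submodule.restrictScalars_top A B K, ← Ideal.smul_restrictScalars] at h2
    exact h2
  have hinj : Function.Injective ((f.restrictScalars A).lTensor (A ⧸ I)) := by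
    rw [LinearMap.lTensor_inj_iff_rTensor_inj]
    exact CAlgBasics.rTensor_injective_of_flat_quotient (f := f.restrictScalars A) (g := g.restrictScalars A)
      hf hfg hg (A ⧸ I)
  rw [← tmul_one_eq_zero_iff (B := A)] at h1 ⊢
  refine hinj ?_
  rw [LinearMap.lTensor_tmul, LinearMap.map_zero]
  exact h1

theorem flat_ker {N F : Type u} [AddCommGroup N] [Module B N] [Module A N] [IsScalarTower A B N]
    [AddCommGroup F] [Module B F] [Module A F] [IsScalarTower A B F] [Module.Flat A N] [Module.Flat A F]
    (g : F →ₗ[B] N) (hg : Function.Surjective g) : Module.Flat A (LinearMap.ker g) :=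
  CAlgBasics.flat_ker_of_exact (f := (LinearMap.ker g).subtype.restrictScalars A) (g := g.restrictScalars A)
    Subtype.val_injective (LinearMap.exact_subtype_ker_map g) hg

theorem flat_pi [Module.Flat A B] (m : ℕ) : Module.Flat A (Fin m → B) := Module.Flat.trans A B (Fin m → B)

variable [IsLocalRing A] [IsLocalRing B] [IsLocalHom (algebraMap A B)] [IsNoetherianRing B]

local notation "R₀" => B ⧸ Ideal.map (algebraMap A B) (maximalIdeal A)

theorem mB_le : Ideal.map (algebraMap A B) (maximalIdeal A) ≤ maximalIdeal B :=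
  IsLocalRing.map_maximalIdeal_le (algebraMap A B)

theorem subsingleton_of_fib {N : Type u} [AddCommGroup N] [Module B N] [Module.Finite B N]
    [Subsingleton (R₀ ⊗[B] N)] : Subsingleton N := by
  have h : (⊤ : Submodule B N) ≤ Ideal.map (algebraMap A B) (maximalIdeal A) • ⊤ := fun x _ =>
    (tmul_one_eq_zero_iff x).1 (Subsingleton.elim _ _)
  have h0 := Submodule.eq_bot_of_le_smul_of_le_jacobson_bot _ _ Module.Finite.fg_top h
    ((mB_le (A := A) (B := B)).trans (maximalIdeal_le_jacobson _))
  exact Submodule.subsingleton_iff B |>.1 ⟨fun a b => by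
    rw [eq_bot_iff.2 (h0 ▸ le_top : a ≤ ⊥), eq_bot_iff.2 (h0 ▸ le_top : b ≤ ⊥)]⟩

theorem free_of_fib {N : Type u} [AddCommGroup N] [Module B N] [Module A N] [IsScalarTower A B N]
    [Module.Finite B N] [Module.Flat A N] [Module.Projective R₀ (R₀ ⊗[B] N)] : Module.Free B N := by
  classical
  haveI : Nontrivial R₀ := Ideal.Quotient.nontrivial_iff.2 fun h =>
    (maximalIdeal.isMaximal B).ne_top (top_le_iff.1 (h ▸ mB_le (A := A) (B := B)))
  haveI : IsLocalRing R₀ := .of_surjective' _ Ideal.Quotient.mk_surjective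
  haveI : Module.Free R₀ (R₀ ⊗[B] N) := Module.free_of_flat_of_isLocalRing
  let ι := Module.Free.ChooseBasisIndex R₀ (R₀ ⊗[B] N)
  let b := Module.Free.chooseBasis R₀ (R₀ ⊗[B] N)
  choose v hv using fun i : ι => exists_one_tmul (b i)
  let g : (ι → B) →ₗ[B] N := Fintype.linearCombination B v
  have hgs : Function.Surjective (g.baseChange R₀) := by
    rw [← LinearMap.range_eq_top, eq_top_iff, ← b.span_eq, Submodule.span_le]
    rintro _ ⟨i, rfl⟩
    exact ⟨1 ⊗ₜ Pi.single i 1, by rw [LinearMap.baseChange_tmul, ← hv i]; simp [g]⟩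
  let e : (R₀ ⊗[B] N) ≃ₗ[R₀] R₀ ⊗[B] (ι → B) :=
    b.equiv (Algebra.TensorProduct.basis R₀ (Pi.basisFun B ι)) (Equiv.refl ι)
  have hbij : Function.Bijective (e.toLinearMap ∘ₗ g.baseChange R₀) :=
    OrzechProperty.bijective_of_surjective_endomorphism _ (e.surjective.comp hgs)
  have hginj : Function.Injective (g.baseChange R₀) := Function.Injective.of_comp (f := e) hbij.1
  have hsurj : Function.Surjective g := by
    rw [← LinearMap.range_eq_top, eq_top_iff]
    refine Submodule.le_of_le_smul_of_le_jacobson_bot Module.Finite.fg_top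
      ((mB_le (A := A) (B := B)).trans (maximalIdeal_le_jacobson _)) fun x _ => ?_
    obtain ⟨w, hw⟩ := hgs ((1 : R₀) ⊗ₜ x)
    obtain ⟨u, rfl⟩ := exists_one_tmul w
    rw [LinearMap.baseChange_tmul] at hw
    have h0 : (1 : R₀) ⊗ₜ[B] (x - g u) = 0 := by rw [tmul_sub, hw, sub_self]
    rw [show x = g u + (x - g u) by abel]
    exact add_mem (Submodule.mem_sup_left ⟨u, rfl⟩) (Submodule.mem_sup_right ((tmul_one_eq_zero_iff _).1 h0))
  have hker : Subsingleton (R₀ ⊗[B] LinearMap.ker g) := by
    refine ⟨fun s t => ?_⟩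
    refine fib_injective (A := A) (maximalIdeal A) (LinearMap.ker g).subtype g Subtype.val_injective hsurj
      (LinearMap.exact_subtype_ker_map g) (hginj ?_)
    have h0 : ∀ z, g.baseChange R₀ ((LinearMap.ker g).subtype.baseChange R₀ z) = 0 := fun z => by
      obtain ⟨x, rfl⟩ := exists_one_tmul z
      simp
    rw [h0, h0]
  haveI : Subsingleton (LinearMap.ker g) := subsingleton_of_fib (A := A) (B := B) (N := LinearMap.ker g)
  exact Module.Free.of_equiv (LinearEquiv.ofBijective g
    ⟨LinearMap.ker_eq_bot.1 (Submodule.subsingleton_iff_eq_bot.1 ‹_›), hsurj⟩)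

theorem pdLT_iff_fib [Module.Flat A B] : ∀ (n : ℕ) (N : Type u) [AddCommGroup N] [Module B N] [Module A N]
    [IsScalarTower A B N] [Module.Finite B N] [Module.Flat A N],
    HasProjectiveDimensionLT (ModuleCat.of B N) n ↔
      HasProjectiveDimensionLT (ModuleCat.of R₀ (R₀ ⊗[B] N)) n := by
  intro n
  induction n with
  | zero =>
    intro N _ _ _ _ _ _
    simp only [PdFlat.hasPDLT_zero_iff]
    exact ⟨fun _ => inferInstance, fun _ => subsingleton_of_fib (A := A) (B := B) (N := N)⟩
  | succ n ih =>
    intro N _ _ _ _ _ _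
    cases n with
    | zero =>
      simp only [Nat.zero_add, PdFlat.hasPDLT_one_iff]
      refine ⟨fun _ => inferInstance, fun _ => ?_⟩
      haveI := free_of_fib (A := A) (B := B) (N := N)
      exact Module.Projective.of_free
    | succ n =>
      obtain ⟨m, g, hg⟩ := Module.Finite.exists_fin' B N
      haveI := flat_pi (A := A) (B := B) m
      haveI := flat_ker (A := A) g hg
      have hex := LinearMap.exact_subtype_ker_map g
      obtain ⟨hex', hsurj'⟩ := PdFlat.baseChange_exact R₀ (LinearMap.ker g).subtype g hg hex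
      rw [PdFlat.hasPDLT_succ_iff (LinearMap.ker g).subtype g Subtype.val_injective hg hex n,
        PdFlat.hasPDLT_succ_iff ((LinearMap.ker g).subtype.baseChange R₀) (g.baseChange R₀)
          (fib_injective (A := A) (maximalIdeal A) _ g Subtype.val_injective hg hex) hsurj' hex' n]
      exact ih (LinearMap.ker g)

theorem split_pdLT [Module.Flat A B] : ∀ (n : ℕ) (N : Type u) [AddCommGroup N] [Module B N] [Module A N]
    [IsScalarTower A B N] [Module.Finite B N] [Module.Flat A N] (X : Type u) [AddCommGroup X] [Module B X]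
    [Module.Finite B X] (f : N →ₗ[B] X) (g : X →ₗ[B] R₀ ⊗[B] N),
    (∀ x, g (f x) - (1 : R₀) ⊗ₜ x ∈ (maximalIdeal B • ⊤ : Submodule B (R₀ ⊗[B] N))) →
    HasProjectiveDimensionLT (ModuleCat.of B X) n → HasProjectiveDimensionLT (ModuleCat.of B N) n := by
  intro n
  induction n with
  | zero =>
    intro N _ _ _ _ _ _ X _ _ _ f g h hX
    rw [PdFlat.hasPDLT_zero_iff] at hX ⊢
    haveI : Subsingleton (R₀ ⊗[B] N) := by
      have h1 : (⊤ : Submodule B (R₀ ⊗[B] N)) ≤ maximalIdeal B • ⊤ := fun z _ => by
        obtain ⟨x, rfl⟩ := exists_one_tmul z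
        have := h x
        rw [Subsingleton.elim (f x) 0, map_zero, zero_sub] at this
        exact (neg_mem_iff (S := Submodule B (R₀ ⊗[B] N))).1 this
      have h0 := Submodule.eq_bot_of_le_smul_of_le_jacobson_bot _ _ Module.Finite.fg_top h1 (maximalIdeal_le_jacobson _)
      exact ⟨fun a b => (Submodule.mem_bot B |>.1 (h0 ▸ Submodule.mem_top)).trans
        (Submodule.mem_bot B |>.1 (h0 ▸ Submodule.mem_top)).symm⟩
    exact subsingleton_of_fib (A := A) (B := B) (N := N)
  | succ n ih =>
    intro N _ _ _ _ _ _ X _ _ _ f g₀ h hX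
    let e : R₀ ⊗[B] N →ₗ[B] R₀ ⊗[B] N := ((g₀ ∘ₗ f).liftBaseChange R₀).restrictScalars B
    have he : ∀ x : N, e ((1 : R₀) ⊗ₜ x) = g₀ (f x) := fun x => by
      simp [e]
    have hebij : Function.Bijective e := LeftInvLib.bijective_of_sub_mem (maximalIdeal B)
      (Or.inr ⟨maximalIdeal_le_jacobson _, inferInstance⟩) e fun z => by
        obtain ⟨x, rfl⟩ := exists_one_tmul z
        rw [he]
        exact h x
    let g : X →ₗ[B] R₀ ⊗[B] N := (LinearEquiv.ofBijective e hebij).symm.toLinearMap ∘ₗ g₀
    have hgf : ∀ x, g (f x) = (1 : R₀) ⊗ₜ x := fun x => by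
      show (LinearEquiv.ofBijective e hebij).symm (g₀ (f x)) = _
      rw [LinearEquiv.symm_apply_eq, LinearEquiv.ofBijective_apply, he]
    obtain ⟨a, p, hp, hmin⟩ := RegLocal.exists_minimal_cover (R := B) N
    haveI := flat_pi (A := A) (B := B) a
    haveI := flat_ker (A := A) p hp
    let K := LinearMap.ker p
    have hexp := LinearMap.exact_subtype_ker_map p
    obtain ⟨hexF, hsurjF⟩ := PdFlat.baseChange_exact R₀ K.subtype p hp hexp
    have hinjF := fib_injective (A := A) (maximalIdeal A) K.subtype p Subtype.val_injective hp hexp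
    have hKm : ∀ v ∈ K, v ∈ (maximalIdeal B • ⊤ : Submodule B (Fin a → B)) := fun v hv => by
      rw [pi_eq_sum_univ v]
      exact sum_mem fun i _ => Submodule.smul_mem_smul (hmin v hv i) Submodule.mem_top
    have step : ∀ (b : ℕ) (P0 : Type u) [AddCommGroup P0] [Module B P0] [Module.Projective B P0] [Module.Finite B P0]
        (q : P0 →ₗ[B] X), Function.Surjective q →
        ∃ (f' : K →ₗ[B] LinearMap.ker q) (g' : LinearMap.ker q →ₗ[B] R₀ ⊗[B] K),
          ∀ x, g' (f' x) - (1 : R₀) ⊗ₜ x ∈ (maximalIdeal B • ⊤ : Submodule B (R₀ ⊗[B] K)) := by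
      intro _ P0 _ _ _ _ q hq
      obtain ⟨φ, hφ⟩ := Module.projective_lifting_property q (f ∘ₗ p) hq
      obtain ⟨ψ, hψ⟩ := Module.projective_lifting_property ((p.baseChange R₀).restrictScalars B) (g ∘ₗ q) hsurjF
      have hφ' : ∀ v, q (φ v) = f (p v) := fun v => LinearMap.congr_fun hφ v
      have hψ' : ∀ w, p.baseChange R₀ (ψ w) = g (q w) := fun w => LinearMap.congr_fun hψ w
      let j : R₀ ⊗[B] K →ₗ[B] R₀ ⊗[B] (Fin a → B) := (K.subtype.baseChange R₀).restrictScalars B
      have hj : Function.Injective j := hinjF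
      have hmem : ∀ w, p.baseChange R₀ w = 0 → w ∈ LinearMap.range j := fun w hw => (hexF w).1 hw
      let δ : (Fin a → B) →ₗ[B] R₀ ⊗[B] (Fin a → B) := ψ ∘ₗ φ - (TensorProduct.mk B R₀ (Fin a → B) 1)
      have hδ : ∀ v, δ v ∈ LinearMap.range j := fun v => hmem _ (by
        simp [δ, hψ', hφ', hgf])
      let δ' : (Fin a → B) →ₗ[B] R₀ ⊗[B] K := (LinearEquiv.ofInjective j hj).symm.toLinearMap ∘ₗ δ.codRestrict _ hδ
      have hδ' : ∀ v, j (δ' v) = δ v := fun v => by
        show j ((LinearEquiv.ofInjective j hj).symm ⟨δ v, hδ v⟩) = δ v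
        rw [← LinearEquiv.ofInjective_apply (h := hj), LinearEquiv.apply_symm_apply]
      have hψK : ∀ w ∈ LinearMap.ker q, ψ w ∈ LinearMap.range j := fun w hw => hmem _ (by
        rw [hψ', LinearMap.mem_ker.1 hw, map_zero])
      let f' : K →ₗ[B] LinearMap.ker q := (φ ∘ₗ K.subtype).codRestrict _ fun x => by
        simp [hφ', LinearMap.mem_ker.1 x.2]
      let g' : LinearMap.ker q →ₗ[B] R₀ ⊗[B] K := (LinearEquiv.ofInjective j hj).symm.toLinearMap ∘ₗ
        (ψ ∘ₗ (LinearMap.ker q).subtype).codRestrict _ fun w => hψK w.1 w.2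
      refine ⟨f', g', fun x => ?_⟩
      have hx : g' (f' x) - (1 : R₀) ⊗ₜ x = δ' x.1 := by
        apply hj
        rw [map_sub, hδ']
        show j ((LinearEquiv.ofInjective j hj).symm ⟨ψ (φ x.1), _⟩) - _ = _
        rw [← LinearEquiv.ofInjective_apply (h := hj), LinearEquiv.apply_symm_apply]
        simp [δ, j]
      rw [hx]
      have : δ' x.1 ∈ (maximalIdeal B • ⊤ : Submodule B (Fin a → B)).map δ' := ⟨x.1, hKm _ x.2, rfl⟩
      rw [Submodule.map_smul''] at this
      exact Submodule.smul_mono le_rfl le_top this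
    cases n with
    | zero =>
      rw [Nat.zero_add, PdFlat.hasPDLT_one_iff] at hX
      obtain ⟨f', g', h'⟩ := step 0 X LinearMap.id Function.surjective_id
      haveI : Subsingleton (LinearMap.ker (LinearMap.id : X →ₗ[B] X)) := by
        rw [LinearMap.ker_id]; infer_instance
      have hK0 := ih K _ f' g' h' (PdFlat.hasPDLT_zero_iff _ |>.2 ‹_›)
      rw [PdFlat.hasPDLT_zero_iff] at hK0
      rw [Nat.zero_add, PdFlat.hasPDLT_one_iff]
      exact Module.Projective.of_equiv (LinearEquiv.ofBijective p
        ⟨LinearMap.ker_eq_bot.1 (Submodule.subsingleton_iff_eq_bot.1 hK0), hp⟩)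
    | succ n =>
      obtain ⟨b, q, hq⟩ := Module.Finite.exists_fin' B X
      obtain ⟨f', g', h'⟩ := step b (Fin b → B) q hq
      exact (RegLocal.syzygy_iff p hp n).2 (ih K _ f' g' h' ((RegLocal.syzygy_iff q hq n).1 hX))

theorem torDim_of_pdLT [Module.Flat A B] : ∀ (r : ℕ) (X : Type u) [AddCommGroup X] [Module B X] [Module A X]
    [IsScalarTower A B X] [Module.Finite B X], HasProjectiveDimensionLT (ModuleCat.of B X) (r + 1) →
    DRing.HasTorDimLE A r X := by
  intro r
  induction r with
  | zero =>
    intro X _ _ _ _ _ h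
    rw [PdFlat.hasPDLT_one_iff] at h
    exact (DRingLib.hasTorDimLE_zero_iff X).2 (Module.Flat.trans A B X)
  | succ r ih =>
    intro X _ _ _ _ _ h
    obtain ⟨b, q, hq⟩ := Module.Finite.exists_fin' B X
    haveI := flat_pi (A := A) (B := B) b
    exact WEField.torDim_shift_up _ _ X ((LinearMap.ker q).subtype.restrictScalars A) (q.restrictScalars A)
      Subtype.val_injective hq (LinearMap.exact_subtype_ker_map q) r (ih _ ((RegLocal.syzygy_iff q hq r).1 h))

theorem pdLT_of_torDim [IsNoetherianRing A] {N : Type u} [AddCommGroup N] [Module A N] [Module.FaithfullyFlat A N] :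
    ∀ (r : ℕ) (M : Type u) [AddCommGroup M] [Module A M] [Module.Finite A M],
    DRing.HasTorDimLE A r (N ⊗[A] M) → HasProjectiveDimensionLT (ModuleCat.of A M) (r + 1) := by
  intro r
  induction r with
  | zero =>
    intro M _ _ _ h
    rw [DRingLib.hasTorDimLE_zero_iff] at h
    rw [PdFlat.hasPDLT_one_iff]
    haveI : Module.Flat A M := by
      rw [Module.Flat.iff_lTensor_preserves_injective_linearMap]
      intro P P' _ _ _ _ φ hφ
      refine (Module.FaithfullyFlat.lTensor_injective_iff_injective A N (φ.lTensor M)).1 ?_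
      have h1 := Module.Flat.lTensor_preserves_injective_linearMap (M := N ⊗[A] M) φ hφ
      rw [LinearMap.lTensor_tensor] at h1
      simp only [LinearMap.coe_comp, LinearEquiv.coe_coe] at h1
      exact (EquivLike.injective_comp (TensorProduct.assoc A N M P) _).1
        ((EquivLike.comp_injective _ (TensorProduct.assoc A N M P').symm).1 h1)
    haveI := Module.finitePresentation_of_finite A M
    exact Module.Flat.projective_of_finitePresentation
  | succ r ih =>
    intro M _ _ _ h
    obtain ⟨a, p, hp⟩ := Module.Finite.exists_fin' A M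
    refine (RegLocal.syzygy_iff p hp r).2 (ih _ ?_)
    exact WEField.torDim_shift_down _ _ _ ((LinearMap.ker p).subtype.lTensor N) (p.lTensor N)
      (Module.Flat.lTensor_preserves_injective_linearMap _ Subtype.val_injective)
      (LinearMap.lTensor_surjective N hp) (lTensor_exact N (LinearMap.exact_subtype_ker_map p) hp) r h

theorem finite_pd_tensor [IsNoetherianRing A] {N : Type u} [AddCommGroup N] [Module B N] [Module A N]
    [IsScalarTower A B N] [Module.Flat A N] {t : ℕ} (hN : HasProjectiveDimensionLT (ModuleCat.of B N) (t + 1)) :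
    ∀ (r : ℕ) (M : Type u) [AddCommGroup M] [Module A M] [Module.Finite A M],
      HasProjectiveDimensionLT (ModuleCat.of A M) (r + 1) →
      HasProjectiveDimensionLT (ModuleCat.of B (N ⊗[A] M)) (t + r + 1) := by
  have hfree : ∀ a : ℕ, HasProjectiveDimensionLT (ModuleCat.of B (N ⊗[A] (Fin a → A))) (t + 1) := by
    intro a
    have h1 : HasProjectiveDimensionLT (ModuleCat.of B (Fin a → N)) (t + 1) := by
      induction a with
      | zero =>
        haveI : HasProjectiveDimensionLT (ModuleCat.of B (Fin 0 → N)) 0 := (PdFlat.hasPDLT_zero_iff _).2 inferInstance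
        exact hasProjectiveDimensionLT_of_ge _ 0 _ (by omega)
      | succ a ih =>
        let e : (N × (Fin a → N)) ≃ₗ[B] (Fin (a + 1) → N) := Fin.consLinearEquiv B fun _ : Fin (a + 1) => N
        have hS : (ShortComplex.mk (ModuleCat.ofHom (LinearMap.inl B N (Fin a → N)))
            (ModuleCat.ofHom (LinearMap.snd B N (Fin a → N))) (by ext1; exact LinearMap.ext fun x => rfl)).ShortExact :=
          TorLib.shortExact_mk _ _ LinearMap.inl_injective LinearMap.snd_surjective
            (Function.Exact.inl_snd)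
        haveI := hS.hasProjectiveDimensionLT_X₂ (t + 1) hN ih
        exact hasProjectiveDimensionLT_of_iso e.toModuleIso _
    haveI := h1
    exact hasProjectiveDimensionLT_of_iso
      (TensorProduct.piScalarRight A B N (Fin a)).symm.toModuleIso _
  intro r
  induction r with
  | zero =>
    intro M _ _ _ h
    rw [Nat.zero_add, PdFlat.hasPDLT_one_iff] at h
    obtain ⟨a, p, hp⟩ := Module.Finite.exists_fin' A M
    obtain ⟨s, hs⟩ := Module.projective_lifting_property p LinearMap.id hp
    let P := AlgebraTensorModule.map (LinearMap.id : N →ₗ[B] N) p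
    let S := AlgebraTensorModule.map (LinearMap.id : N →ₗ[B] N) s
    have hPS : P ∘ₗ S = LinearMap.id := by
      refine AlgebraTensorModule.ext fun n m => ?_
      show n ⊗ₜ[A] p (s m) = n ⊗ₜ[A] m
      rw [show p (s m) = m from LinearMap.congr_fun hs m]
    haveI := hfree a
    exact (⟨ModuleCat.ofHom S, ModuleCat.ofHom P, by ext1; exact hPS⟩ :
      Retract (ModuleCat.of B (N ⊗[A] M)) (ModuleCat.of B (N ⊗[A] (Fin a → A)))).hasProjectiveDimensionLT _
  | succ r ih =>
    intro M _ _ _ h
    obtain ⟨a, p, hp⟩ := Module.Finite.exists_fin' A M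
    have hK := ih _ ((RegLocal.syzygy_iff p hp r).1 h)
    haveI := hfree a
    have hS : (ShortComplex.mk
        (ModuleCat.ofHom (AlgebraTensorModule.map (LinearMap.id : N →ₗ[B] N) (LinearMap.ker p).subtype))
        (ModuleCat.ofHom (AlgebraTensorModule.map (LinearMap.id : N →ₗ[B] N) p)) (by
          ext1
          refine AlgebraTensorModule.ext fun n k => ?_
          simp)).ShortExact :=
      TorLib.shortExact_mk (AlgebraTensorModule.map (LinearMap.id : N →ₗ[B] N) (LinearMap.ker p).subtype)
        (AlgebraTensorModule.map (LinearMap.id : N →ₗ[B] N) p)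
        (show Function.Injective ((LinearMap.ker p).subtype.lTensor N) from
          Module.Flat.lTensor_preserves_injective_linearMap _ Subtype.val_injective)
        (show Function.Surjective (p.lTensor N) from LinearMap.lTensor_surjective N hp)
        (show Function.Exact ((LinearMap.ker p).subtype.lTensor N) (p.lTensor N) from
          lTensor_exact N (LinearMap.exact_subtype_ker_map p) hp)
    exact hS.hasProjectiveDimensionLT_X₃ (t + r + 1) hK (hasProjectiveDimensionLT_of_ge _ (t + 1) _ (by omega))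

end Groth.Agent.FibPdLib
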