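import Mathlib
import Groth.Agent.FppfSrc.FlatModel
import Groth.Agent.FibreDepth.Descent

/-!
# A noetherian model of a flat module over a flat finitely presented algebra
-/

set_option autoImplicit false
set_option linter.style.haveILetI false
set_option backward.isDefEq.respectTransparency false
set_option linter.unusedSectionVars false

universe u

open MvPolynomial TensorProduct Groth.Agent.GenFree Groth.Agent.FlatLocus Groth.Agent.FppfSrc

namespace Groth.Agent.FibPdLib

variable {n a : ℕ}

theorem map_map_tower {R A T : Type u} [CommRing R] [CommRing A] [CommRing T] [Algebra R A] [Algebra A T] [Algebra R T]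
    [IsScalarTower R A T] (I : Ideal (MvPolynomial (Fin n) R)) :
    (I.map (MvPolynomial.map (algebraMap R A))).map (MvPolynomial.map (algebraMap A T)) =
      I.map (MvPolynomial.map (algebraMap R T)) := by
  rw [Ideal.map_map]
  congr 1
  exact MvPolynomial.ringHom_ext (fun r => by simp [← IsScalarTower.algebraMap_apply]) fun i => by simp

theorem phi_single_one (R A : Type u) [CommRing R] [CommRing A] [Algebra R A] (s : Fin a) :
    phi A (Pi.single s 1 : FreeMod R a n) = Pi.single s 1 := by
  funext t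
  rw [phi_apply]
  rcases eq_or_ne t s with rfl | h
  · rw [Pi.single_eq_same, Pi.single_eq_same, map_one]
  · rw [Pi.single_eq_of_ne h, Pi.single_eq_of_ne h, map_zero]

theorem idealN_map {R A : Type u} [CommRing R] [CommRing A] [Algebra R A] (I : Ideal (MvPolynomial (Fin n) R)) :
    idealN (I.map (MvPolynomial.map (algebraMap R A))) = locN A (idealN I) := by
  rw [← map_locN_idealN I A]
  exact Submodule.comap_map_eq_of_injective (LinearEquiv.injective _) _

/-- The flat model of the algebra. -/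
theorem isPushout_model {S A B : Type u} [CommRing S] [CommRing A] [CommRing B] [Algebra S A] [Algebra A B]
    [Algebra S B] [IsScalarTower S A B] (I : Ideal (MvPolynomial (Fin n) S)) (π : MvPolynomial (Fin n) A →ₐ[A] B)
    (hπ : Function.Surjective π) (hker : RingHom.ker π.toRingHom = I.map (MvPolynomial.map (algebraMap S A)))
    [Algebra (MvPolynomial (Fin n) S ⧸ I) B] [IsScalarTower S (MvPolynomial (Fin n) S ⧸ I) B]
    (hC : ∀ p, algebraMap (MvPolynomial (Fin n) S ⧸ I) B (Ideal.Quotient.mk I p) =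
      π (MvPolynomial.map (algebraMap S A) p)) :
    Algebra.IsPushout S A (MvPolynomial (Fin n) S ⧸ I) B := by
  let e3 : A ⊗[S] (MvPolynomial (Fin n) S ⧸ I) ≃ₐ[A]
      (A ⊗[S] MvPolynomial (Fin n) S) ⧸ I.map (Algebra.TensorProduct.includeRight :
        MvPolynomial (Fin n) S →ₐ[S] A ⊗[S] MvPolynomial (Fin n) S) :=
    Algebra.TensorProduct.tensorQuotientEquiv (R := S) A (MvPolynomial (Fin n) S) A I
  let e4 : A ⊗[S] MvPolynomial (Fin n) S ≃ₐ[A] MvPolynomial (Fin n) A :=
    MvPolynomial.algebraTensorAlgEquiv S A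
  have hmap : RingHom.ker π.toRingHom =
      (I.map (Algebra.TensorProduct.includeRight :
        MvPolynomial (Fin n) S →ₐ[S] A ⊗[S] MvPolynomial (Fin n) S)).map
          (e4 : A ⊗[S] MvPolynomial (Fin n) S →+* MvPolynomial (Fin n) A) := by
    rw [hker]
    refine Eq.trans ?_ (Eq.symm (Ideal.map_map _ _))
    congr 1
    refine MvPolynomial.ringHom_ext (fun r => ?_) fun i => ?_
    · simp [e4, Algebra.smul_def]
    · simp [e4]
  let e : A ⊗[S] (MvPolynomial (Fin n) S ⧸ I) ≃ₐ[A] B :=
    (e3.trans (Ideal.quotientEquivAlg _ _ e4 hmap)).trans (Ideal.quotientKerAlgEquivOfSurjective hπ)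
  refine ⟨IsBaseChange.of_equiv e.toLinearEquiv fun x => ?_⟩
  obtain ⟨p, rfl⟩ := Ideal.Quotient.mk_surjective x
  show e ((1 : A) ⊗ₜ[S] Ideal.Quotient.mk I p) = algebraMap (MvPolynomial (Fin n) S ⧸ I) B (Ideal.Quotient.mk I p)
  rw [hC]
  have h4 : e4 ((1 : A) ⊗ₜ[S] p) = MvPolynomial.map (algebraMap S A) p := by
    simp [e4]
  rw [← h4]
  rfl

/-- Defining a map out of a presented module. -/
theorem exists_bwd {S A B : Type u} [CommRing S] [CommRing A] [CommRing B] [Algebra S A] [Algebra A B]
    {M : Type u} [AddCommGroup M] [Module B M] [Module (MvPolynomial (Fin n) A) M]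
    (π : MvPolynomial (Fin n) A →ₐ[A] B) (hπ : Function.Surjective π)
    (hM : ∀ (p : MvPolynomial (Fin n) A) (x : M), p • x = π p • x)
    (N : Submodule (MvPolynomial (Fin n) S) (FreeMod S a n))
    (ε : M ≃ₗ[MvPolynomial (Fin n) A] FreeMod A a n ⧸ locN A N)
    {T : Type u} [AddCommGroup T] [Module B T] (t : Fin a → T)
    (ht : ∀ v ∈ N, ∑ s, π (MvPolynomial.map (algebraMap S A) (v s)) • t s = 0) :
    ∃ bwd : M →ₗ[B] T, ∀ w, bwd (ε.symm ((locN A N).mkQ w)) = ∑ s, π (w s) • t s := by
  letI : Module (MvPolynomial (Fin n) A) T := Module.compHom T π.toRingHom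
  have hT : ∀ (p : MvPolynomial (Fin n) A) (x : T), p • x = π p • x := fun _ _ => rfl
  let L : FreeMod A a n →ₗ[MvPolynomial (Fin n) A] T := Fintype.linearCombination (MvPolynomial (Fin n) A) t
  have hL : ∀ w, L w = ∑ s, π (w s) • t s := fun w => by
    rw [Fintype.linearCombination_apply]
    rfl
  let bwd₀ : (FreeMod A a n ⧸ locN A N) →ₗ[MvPolynomial (Fin n) A] T :=
    (locN A N).liftQ L (Submodule.span_le.2 (by
      rintro _ ⟨v, hv, rfl⟩
      show L (phi A v) = 0
      rw [hL]
      exact ht v hv))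
  refine ⟨{ toFun := fun x => bwd₀ (ε x), map_add' := fun x y => by rw [map_add, map_add],
            map_smul' := fun b x => ?_ }, fun w => ?_⟩
  · obtain ⟨p, rfl⟩ := hπ b
    rw [← hM, map_smul, map_smul, RingHom.id_apply, hT]
  · show bwd₀ (ε (ε.symm _)) = _
    rw [LinearEquiv.apply_symm_apply]
    exact hL w

/-- The model of the module. -/
theorem nonempty_model {S A B : Type u} [CommRing S] [CommRing A] [CommRing B] [Algebra S A] [Algebra A B]
    {M : Type u} [AddCommGroup M] [Module B M] [Module (MvPolynomial (Fin n) A) M]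
    (π : MvPolynomial (Fin n) A →ₐ[A] B) (hπ : Function.Surjective π)
    (hM : ∀ (p : MvPolynomial (Fin n) A) (x : M), p • x = π p • x)
    (N : Submodule (MvPolynomial (Fin n) S) (FreeMod S a n))
    (ε : M ≃ₗ[MvPolynomial (Fin n) A] FreeMod A a n ⧸ locN A N)
    {C : Type u} [CommRing C] [Algebra (MvPolynomial (Fin n) S) C] [Algebra C B]
    (hsurjC : Function.Surjective (algebraMap (MvPolynomial (Fin n) S) C))
    (hC : ∀ p, algebraMap C B (algebraMap (MvPolynomial (Fin n) S) C p) = π (MvPolynomial.map (algebraMap S A) p))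
    {M₂ : Type u} [AddCommGroup M₂] [Module (MvPolynomial (Fin n) S) M₂] [Module C M₂]
    [IsScalarTower (MvPolynomial (Fin n) S) C M₂]
    (q : FreeMod S a n →ₗ[MvPolynomial (Fin n) S] M₂) (hq : Function.Surjective q) (hqN : LinearMap.ker q = N) :
    Nonempty (M ≃ₗ[B] B ⊗[C] M₂) := by
  classical
  letI : Module C M := Module.compHom M (algebraMap C B)
  haveI : IsScalarTower C B M := IsScalarTower.of_algebraMap_smul fun _ _ => rfl
  have hMC : ∀ (p : MvPolynomial (Fin n) S) (x : M),
      algebraMap (MvPolynomial (Fin n) S) C p • x = MvPolynomial.map (algebraMap S A) p • x := fun p x => by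
    show algebraMap C B (algebraMap (MvPolynomial (Fin n) S) C p) • x = _
    rw [hC, hM]
  let f₀ : FreeMod S a n →+ M := ε.symm.toAddMonoidHom.comp ((locN A N).mkQ.toAddMonoidHom.comp (phi A).toAddMonoidHom)
  have hf₀ : ∀ (p : MvPolynomial (Fin n) S) (v : FreeMod S a n),
      f₀ (p • v) = algebraMap (MvPolynomial (Fin n) S) C p • f₀ v := fun p v => by
    rw [hMC]
    show ε.symm ((locN A N).mkQ (phi A (p • v))) = _
    rw [phi_smul, map_smul, map_smul]
    rfl
  have hN : N.toAddSubgroup ≤ f₀.ker := fun v hv => by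
    show ε.symm ((locN A N).mkQ (phi A v)) = 0
    rw [show (locN A N).mkQ (phi A v) = 0 from (Submodule.Quotient.mk_eq_zero _).2 (phi_mem A N hv), map_zero]
  have hNq : q.toAddMonoidHom.ker ≤ f₀.ker := fun v hv => hN (show v ∈ N from hqN ▸ hv)
  let g₀ : M₂ →+ M := q.toAddMonoidHom.liftOfSurjective hq ⟨f₀, hNq⟩
  let g : M₂ →ₗ[C] M :=
    { toFun := g₀
      map_add' := map_add g₀
      map_smul' := fun c x => by
        obtain ⟨p, rfl⟩ := hsurjC c
        obtain ⟨v, rfl⟩ := hq x
        rw [RingHom.id_apply, algebraMap_smul, ← map_smul]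
        show g₀ (q.toAddMonoidHom (p • v)) = _ • g₀ (q.toAddMonoidHom v)
        rw [AddMonoidHom.liftOfRightInverse_comp_apply, AddMonoidHom.liftOfRightInverse_comp_apply]
        exact hf₀ p v }
  have hg : ∀ v, g (q v) = ε.symm ((locN A N).mkQ (phi A v)) := fun v =>
    AddMonoidHom.liftOfRightInverse_comp_apply q.toAddMonoidHom _ (Function.rightInverse_surjInv hq) ⟨f₀, hNq⟩ v
  let T := B ⊗[C] M₂
  let t : Fin a → T := fun s => (1 : B) ⊗ₜ[C] q (Pi.single s 1)
  have hL : ∀ v, ∑ s, π (phi A v s) • t s = (1 : B) ⊗ₜ[C] q v := by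
    intro v
    conv_rhs => rw [pi_eq_sum_univ' v]
    rw [map_sum, TensorProduct.tmul_sum]
    refine Finset.sum_congr rfl fun s _ => ?_
    rw [phi_apply, map_smul, ← algebraMap_smul C (v s) (q (Pi.single s 1)), TensorProduct.tmul_smul,
      ← algebraMap_smul B (algebraMap (MvPolynomial (Fin n) S) C (v s)), hC]
  obtain ⟨bwd, hbwd⟩ := exists_bwd π hπ hM N ε t fun v hv => (hL v).trans
    (by rw [show q v = 0 from LinearMap.mem_ker.1 (hqN.ge hv), TensorProduct.tmul_zero])
  let fwd : T →ₗ[B] M := LinearMap.liftBaseChange B g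
  have hfwd : ∀ v, fwd ((1 : B) ⊗ₜ[C] q v) = ε.symm ((locN A N).mkQ (phi A v)) := fun v => by
    show LinearMap.liftBaseChange B g _ = _
    rw [LinearMap.liftBaseChange_tmul, one_smul, hg]
  refine ⟨(LinearEquiv.ofLinearMap fwd bwd ?_ ?_).symm⟩
  · refine LinearMap.ext fun x => ?_
    obtain ⟨y, rfl⟩ := ε.symm.surjective x
    obtain ⟨w, rfl⟩ := (locN A N).mkQ_surjective y
    rw [LinearMap.comp_apply, LinearMap.id_apply, hbwd]
    conv_rhs => rw [pi_eq_sum_univ' w]
    rw [map_sum, map_sum, map_sum]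
    refine Finset.sum_congr rfl fun s _ => ?_
    rw [map_smul, hfwd, phi_single_one, map_smul, map_smul, hM]
  · refine TensorProduct.AlgebraTensorModule.ext fun b x => ?_
    obtain ⟨v, rfl⟩ := hq x
    rw [show b ⊗ₜ[C] q v = b • ((1 : B) ⊗ₜ[C] q v) by rw [TensorProduct.smul_tmul', smul_eq_mul, mul_one]]
    rw [map_smul, map_smul]
    rw [LinearMap.comp_apply, LinearMap.id_apply, hfwd, hbwd, hL]

/-- Flatness everywhere passes to extensions. -/
theorem flatSet_univ_of_base {R R' : Type u} [CommRing R] [CommRing R'] [Algebra R R']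
    (N : Submodule (MvPolynomial (Fin n) R) (FreeMod R a n)) (h : flatSet N = Set.univ) :
    flatSet (locN R' N) = Set.univ :=
  Set.eq_univ_of_forall fun q => mem_flatSet_of_comap R N q (h ▸ Set.mem_univ _)

/-- An ideal killing the quotient does so after extension. -/
theorem smul_mem_locN {R R' : Type u} [CommRing R] [CommRing R'] [Algebra R R']
    (I : Ideal (MvPolynomial (Fin n) R)) (N : Submodule (MvPolynomial (Fin n) R) (FreeMod R a n))
    (h : ∀ p ∈ I, ∀ v : FreeMod R a n, p • v ∈ N) :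
    ∀ p ∈ I.map (MvPolynomial.map (algebraMap R R')), ∀ v : FreeMod R' a n, p • v ∈ locN R' N := by
  classical
  intro p hp v
  rw [Ideal.map] at hp
  induction hp using Submodule.span_induction with
  | mem x hx =>
    obtain ⟨r, hr, rfl⟩ := hx
    rw [pi_eq_sum_univ' v, Finset.smul_sum]
    refine Submodule.sum_mem _ fun s _ => ?_
    rw [smul_comm]
    refine Submodule.smul_mem _ _ ?_
    rw [← phi_single_one R R' s, ← phi_smul]
    exact phi_mem R' N (h r hr _)
  | zero => rw [zero_smul]; exact Submodule.zero_mem _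
  | add x y _ _ hx hy => rw [add_smul]; exact Submodule.add_mem _ hx hy
  | smul c x _ hx => rw [smul_eq_mul, mul_smul]; exact Submodule.smul_mem _ c hx

/-- Adding `I` times the free module to the relations. -/
theorem exists_killed {R A B : Type u} [CommRing R] [CommRing A] [CommRing B] [Algebra R A] [Algebra A B]
    {M : Type u} [AddCommGroup M] [Module B M] [Module (MvPolynomial (Fin n) A) M]
    (π : MvPolynomial (Fin n) A →ₐ[A] B) (hM : ∀ (p : MvPolynomial (Fin n) A) (x : M), p • x = π p • x)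
    (K : Submodule (MvPolynomial (Fin n) A) (FreeMod A a n))
    (ε : M ≃ₗ[MvPolynomial (Fin n) A] FreeMod A a n ⧸ K)
    (I : Ideal (MvPolynomial (Fin n) R))
    (hker : RingHom.ker π.toRingHom = I.map (MvPolynomial.map (algebraMap R A)))
    (N0 : Submodule (MvPolynomial (Fin n) R) (FreeMod R a n)) (hN0 : locN A N0 = K) :
    ∃ N1 : Submodule (MvPolynomial (Fin n) R) (FreeMod R a n),
      locN A N1 = K ∧ ∀ p ∈ I, ∀ v : FreeMod R a n, p • v ∈ N1 := by
  refine ⟨N0 ⊔ I • ⊤, le_antisymm (Submodule.span_le.2 ?_) ?_,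
    fun p hp v => Submodule.mem_sup_right (Submodule.smul_mem_smul hp Submodule.mem_top)⟩
  · rintro _ ⟨v, hv, rfl⟩
    obtain ⟨x, hx, y, hy, rfl⟩ := Submodule.mem_sup.1 hv
    rw [map_add]
    refine Submodule.add_mem _ (hN0 ▸ phi_mem A N0 hx) ?_
    refine Submodule.smul_induction_on hy (fun p hp w _ => ?_) fun x y hx hy => ?_
    · rw [phi_smul, ← Submodule.Quotient.mk_eq_zero, Submodule.Quotient.mk_smul]
      apply ε.symm.injective
      rw [map_smul, map_zero, hM, show π (MvPolynomial.map (algebraMap R A) p) = 0 from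
        RingHom.mem_ker.1 (hker.ge (Ideal.mem_map_of_mem _ hp)), zero_smul]
    · rw [map_add]; exact Submodule.add_mem _ hx hy
  · rw [← hN0]
    exact Submodule.span_mono (Set.image_mono (SetLike.coe_subset_coe.2 le_sup_left))

/-- Flatness of the quotient by equal submodules. -/
theorem flat_quotient_of_eq {A B M : Type u} [CommRing A] [CommRing B] [Algebra A B] [AddCommGroup M] [Module A M]
    [Module.Flat A M] [Module (MvPolynomial (Fin n) A) M] [IsScalarTower A (MvPolynomial (Fin n) A) M]
    (K K' : Submodule (MvPolynomial (Fin n) A) (FreeMod A a n)) (h : K' = K)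
    (ε : M ≃ₗ[MvPolynomial (Fin n) A] FreeMod A a n ⧸ K) : Module.Flat A (FreeMod A a n ⧸ K') := by
  subst h
  exact Module.Flat.of_linearEquiv (ε.restrictScalars A).symm

/-- The polynomial data of a noetherian model. -/
theorem exists_data (A B M : Type u) [CommRing A] [CommRing B] [Algebra A B] [Algebra.FinitePresentation A B]
    [Module.Flat A B] [AddCommGroup M] [Module B M] [Module A M] [IsScalarTower A B M]
    [Module.FinitePresentation B M] [Module.Flat A M] :
    ∃ (S : Subalgebra ℤ A) (n : ℕ) (π : MvPolynomial (Fin n) A →ₐ[A] B) (a : ℕ)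
      (I : Ideal (MvPolynomial (Fin n) S)) (N : Submodule (MvPolynomial (Fin n) S) (FreeMod S a n))
      (ε : M ≃+ FreeMod A a n ⧸ locN A N),
      IsNoetherianRing S ∧ Function.Surjective π ∧
        RingHom.ker π.toRingHom = I.map (MvPolynomial.map (algebraMap S A)) ∧
        flatSet (idealN I) = Set.univ ∧ flatSet N = Set.univ ∧ (∀ p ∈ I, ∀ v : FreeMod S a n, p • v ∈ N) ∧
        (∀ (p : MvPolynomial (Fin n) A) (x : M), ε (π p • x) = p • ε x) := by
  classical
  obtain ⟨n, π, hπ, G, hG⟩ := Algebra.FinitePresentation.out (R := A) (A := B)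
  letI algP : Algebra (MvPolynomial (Fin n) A) B := π.toRingHom.toAlgebra
  haveI : IsScalarTower A (MvPolynomial (Fin n) A) B := .of_algebraMap_eq fun a => (π.commutes a).symm
  haveI : Module.FinitePresentation (MvPolynomial (Fin n) A) B :=
    Module.finitePresentation_of_surjective (Algebra.linearMap (MvPolynomial (Fin n) A) B) hπ ⟨G, hG⟩
  letI : Module (MvPolynomial (Fin n) A) M := Module.compHom M π.toRingHom
  haveI : IsScalarTower (MvPolynomial (Fin n) A) B M := .of_algebraMap_smul fun _ _ => rfl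
  haveI : IsScalarTower A (MvPolynomial (Fin n) A) M := .of_algebraMap_smul fun r x => by
    show π (algebraMap A _ r) • x = r • x
    rw [π.commutes, algebraMap_smul]
  haveI : Module.FinitePresentation (MvPolynomial (Fin n) A) M :=
    Module.FinitePresentation.trans (MvPolynomial (Fin n) A) M B
  obtain ⟨a, K, ε, hK⟩ := Module.FinitePresentation.exists_fin (MvPolynomial (Fin n) A) M
  obtain ⟨H, hH⟩ := hK
  let cs : Finset A := (G.biUnion fun g => g.support.image fun m => coeff m g) ∪
    (H.biUnion fun g => (finite_support g).toFinset.image fun i => co i g)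
  let S₀ : Subalgebra ℤ A := Algebra.adjoin ℤ (cs : Set A)
  have hS₀ : S₀.FG := Subalgebra.fg_adjoin_finset _
  haveI : IsNoetherianRing S₀ := isNoetherianRing_of_fg hS₀
  have hcoef : ∀ g ∈ G, ∀ m, coeff m g ∈ S₀ := fun g hg m => by
    by_cases hm : coeff m g = 0
    · rw [hm]; exact S₀.zero_mem
    · exact Algebra.subset_adjoin (Finset.mem_union_left _ (Finset.mem_biUnion.mpr
        ⟨g, hg, Finset.mem_image_of_mem _ (mem_support_iff.mpr hm)⟩))
  choose g0 hg0 using fun g : G => exists_map_eq' S₀ (g : MvPolynomial (Fin n) A) (hcoef g g.2)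
  let I0 : Ideal (MvPolynomial (Fin n) S₀) := Ideal.span (Set.range g0)
  have hker : RingHom.ker π.toRingHom = I0.map (MvPolynomial.map (algebraMap S₀ A)) := by
    rw [← hG, Ideal.map_span, ← Set.range_comp]
    congr 1
    ext z
    exact ⟨fun hz => ⟨⟨z, hz⟩, hg0 _⟩, by rintro ⟨g, rfl⟩; simp only [Function.comp_apply, hg0]; exact g.2⟩
  obtain ⟨N0, hN0⟩ := exists_locN_eq (R := A) S₀ K (H : Set (FreeMod A a n)) hH fun g hg i => by
    by_cases hi : co i g = 0
    · exact ⟨0, by rw [map_zero, hi]⟩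
    · exact ⟨⟨co i g, Algebra.subset_adjoin (Finset.mem_union_right _ (Finset.mem_biUnion.mpr
        ⟨g, hg, Finset.mem_image_of_mem _ ((finite_support g).mem_toFinset.mpr hi)⟩))⟩, rfl⟩
  obtain ⟨N1, hN1, hkill1⟩ := exists_killed π (fun _ _ => rfl) K ε I0 hker N0 hN0
  haveI : Module.Flat A (MvPolynomial (Fin n) A ⧸ I0.map (MvPolynomial.map (algebraMap S₀ A))) :=
    Module.Flat.of_linearEquiv ((Ideal.quotientEquivAlgOfEq A hker.symm).trans
      (Ideal.quotientKerAlgEquivOfSurjective hπ)).toLinearEquiv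
  haveI := flat_locN_of_flat_map I0 A
  obtain ⟨S₁, hle₁, hS₁, hflat₁⟩ := exists_flat_enlarge S₀ hS₀ (idealN I0)
  letI : Algebra S₀ S₁ := (Subalgebra.inclusion hle₁).toRingHom.toAlgebra
  haveI : IsScalarTower S₀ S₁ A := .of_algebraMap_eq fun _ => rfl
  haveI := flat_quotient_of_eq (B := B) K (locN A (locN S₁ N1)) ((locN_locN S₁ N1).trans hN1) ε
  obtain ⟨S₂, hle₂, hS₂, hflat₂⟩ := exists_flat_enlarge S₁ hS₁ (locN S₁ N1)
  letI : Algebra S₁ S₂ := (Subalgebra.inclusion hle₂).toRingHom.toAlgebra
  letI : Algebra S₀ S₂ := (Subalgebra.inclusion (hle₁.trans hle₂)).toRingHom.toAlgebra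
  haveI : IsScalarTower S₁ S₂ A := .of_algebraMap_eq fun _ => rfl
  haveI : IsScalarTower S₀ S₂ A := .of_algebraMap_eq fun _ => rfl
  haveI : IsScalarTower S₀ S₁ S₂ := .of_algebraMap_eq fun _ => rfl
  haveI : IsNoetherianRing S₂ := isNoetherianRing_of_fg hS₂
  let I2 : Ideal (MvPolynomial (Fin n) S₂) := I0.map (MvPolynomial.map (algebraMap S₀ S₂))
  have hI2flat : flatSet (idealN I2) = Set.univ := by
    rw [idealN_map, ← locN_locN S₁ (idealN I0)]
    exact flatSet_univ_of_base (R := S₁) (R' := S₂) _ hflat₁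
  let N2 : Submodule (MvPolynomial (Fin n) S₂) (FreeMod S₂ a n) := locN S₂ (locN S₁ N1)
  have hN2 : locN A N2 = K := ((locN_locN S₂ (locN S₁ N1)).trans (locN_locN S₁ N1)).trans hN1
  have hkill : ∀ p ∈ I2, ∀ v : FreeMod S₂ a n, p • v ∈ N2 := fun p hp v => by
    show p • v ∈ locN S₂ (locN S₁ N1)
    rw [locN_locN S₁ N1]
    exact smul_mem_locN I0 N1 hkill1 p hp v
  have hker2 : RingHom.ker π.toRingHom = I2.map (MvPolynomial.map (algebraMap S₂ A)) := by
    rw [hker, map_map_tower]
  exact ⟨S₂, n, π, a, I2, N2, (ε.trans (Submodule.quotEquivOfEq _ _ hN2.symm)).toAddEquiv, inferInstance, hπ,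
    hker2, hI2flat, hflat₂, hkill,
    fun p x => (ε.trans (Submodule.quotEquivOfEq _ _ hN2.symm)).map_smul p x⟩

/-- From the data to the model. -/
theorem exists_model_of_data {S A B M : Type u} [CommRing S] [IsNoetherianRing S] [CommRing A] [CommRing B]
    [Algebra S A] [Algebra A B] [Algebra S B] [IsScalarTower S A B] [AddCommGroup M] [Module B M]
    (π : MvPolynomial (Fin n) A →ₐ[A] B) (hπ : Function.Surjective π)
    (I : Ideal (MvPolynomial (Fin n) S))
    (hker : RingHom.ker π.toRingHom = I.map (MvPolynomial.map (algebraMap S A)))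
    (hIflat' : flatSet (idealN I) = Set.univ)
    (N : Submodule (MvPolynomial (Fin n) S) (FreeMod S a n))
    (M₂ : Type u) [AddCommGroup M₂] [Module (MvPolynomial (Fin n) S) M₂] [Module S M₂]
    [IsScalarTower S (MvPolynomial (Fin n) S) M₂] [Module.Flat S M₂] [Module.Finite (MvPolynomial (Fin n) S) M₂]
    (q : FreeMod S a n →ₗ[MvPolynomial (Fin n) S] M₂) (hq : Function.Surjective q) (hqN : LinearMap.ker q = N)
    (hkill : Module.IsTorsionBySet (MvPolynomial (Fin n) S) M₂ (I : Set (MvPolynomial (Fin n) S)))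
    (ε : M ≃+ FreeMod A a n ⧸ locN A N) (hε : ∀ (p : MvPolynomial (Fin n) A) (x : M), ε (π p • x) = p • ε x) :
    ∃ (C : Type u) (_ : CommRing C) (_ : Algebra S C) (_ : Algebra C B)
      (_ : IsScalarTower S C B) (M₂' : Type u) (_ : AddCommGroup M₂') (_ : Module C M₂') (_ : Module S M₂')
      (_ : IsScalarTower S C M₂'),
      Algebra.FiniteType S C ∧ Module.Flat S C ∧ Module.Finite C M₂' ∧ Module.Flat S M₂' ∧
        Algebra.IsPushout S A C B ∧ Nonempty (M ≃ₗ[B] B ⊗[C] M₂') := by
  let C := MvPolynomial (Fin n) S ⧸ I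
  have hIflat : Module.Flat S C := by
    haveI := flat_quotient_of_flatSet _ hIflat'
    exact Module.Flat.of_linearEquiv ((Submodule.Quotient.equiv (idealN I) I
      (LinearEquiv.funUnique (Fin 1) (MvPolynomial (Fin n) S) (MvPolynomial (Fin n) S))
      (Submodule.map_comap_eq_of_surjective (LinearEquiv.surjective _) I)).restrictScalars S).symm
  letI : Module C M₂ := hkill.module
  haveI : IsScalarTower (MvPolynomial (Fin n) S) C M₂ := hkill.isScalarTower
  haveI : IsScalarTower S C M₂ := hkill.isScalarTower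
  let κ : C →+* B := Ideal.Quotient.lift I (π.toRingHom.comp (MvPolynomial.map (algebraMap S A))) fun p hp =>
    RingHom.mem_ker.1 (hker.ge (Ideal.mem_map_of_mem _ hp))
  letI : Algebra C B := κ.toAlgebra
  haveI : IsScalarTower S C B := IsScalarTower.of_algebraMap_eq (R := S) (S := C) (A := B) fun r => by
    show algebraMap S B r = π (MvPolynomial.map (algebraMap S A) (algebraMap S (MvPolynomial (Fin n) S) r))
    rw [IsScalarTower.algebraMap_apply S A B r, MvPolynomial.algebraMap_eq, MvPolynomial.map_C,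
      ← MvPolynomial.algebraMap_eq, π.commutes]
  have hC : ∀ p, algebraMap C B (Ideal.Quotient.mk I p) = π (MvPolynomial.map (algebraMap S A) p) := fun _ => rfl
  letI : Module (MvPolynomial (Fin n) A) M := Module.compHom M π.toRingHom
  refine ⟨C, inferInstance, inferInstance, inferInstance, inferInstance, M₂, inferInstance,
    inferInstance, inferInstance, inferInstance, inferInstance, hIflat, ?_,
    inferInstance, isPushout_model I π hπ hker hC, ?_⟩
  · exact Module.Finite.of_restrictScalars_finite (MvPolynomial (Fin n) S) C M₂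
  · exact nonempty_model π hπ (fun _ _ => rfl) N { ε with map_smul' := hε } Ideal.Quotient.mk_surjective hC q hq hqN

/-- From the data to the model, on the quotient. -/
theorem exists_model_of_quotient {S A B M : Type u} [CommRing S] [IsNoetherianRing S] [CommRing A] [CommRing B]
    [Algebra S A] [Algebra A B] [Algebra S B] [IsScalarTower S A B] [AddCommGroup M] [Module B M]
    (π : MvPolynomial (Fin n) A →ₐ[A] B) (hπ : Function.Surjective π)
    (I : Ideal (MvPolynomial (Fin n) S))
    (hker : RingHom.ker π.toRingHom = I.map (MvPolynomial.map (algebraMap S A)))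
    (hI : flatSet (idealN I) = Set.univ)
    (N : Submodule (MvPolynomial (Fin n) S) (FreeMod S a n))
    (hN : flatSet N = Set.univ) (hkillN : ∀ p ∈ I, ∀ v : FreeMod S a n, p • v ∈ N)
    (ε : M ≃+ FreeMod A a n ⧸ locN A N) (hε : ∀ (p : MvPolynomial (Fin n) A) (x : M), ε (π p • x) = p • ε x) :
    ∃ (C : Type u) (_ : CommRing C) (_ : Algebra S C) (_ : Algebra C B)
      (_ : IsScalarTower S C B) (M₂' : Type u) (_ : AddCommGroup M₂') (_ : Module C M₂') (_ : Module S M₂')
      (_ : IsScalarTower S C M₂'),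
      Algebra.FiniteType S C ∧ Module.Flat S C ∧ Module.Finite C M₂' ∧ Module.Flat S M₂' ∧
        Algebra.IsPushout S A C B ∧ Nonempty (M ≃ₗ[B] B ⊗[C] M₂') := by
  haveI := flat_quotient_of_flatSet N hN
  refine exists_model_of_data π hπ I hker hI N (FreeMod S a n ⧸ N) N.mkQ N.mkQ_surjective N.ker_mkQ ?_ ε hε
  rintro x ⟨p, hp⟩
  obtain ⟨v, rfl⟩ := N.mkQ_surjective x
  show p • N.mkQ v = 0
  rw [← map_smul, Submodule.mkQ_apply, Submodule.Quotient.mk_eq_zero]
  exact hkillN p hp v

/-- Data of a noetherian model. -/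
theorem exists_model (A B M : Type u) [CommRing A] [CommRing B] [Algebra A B] [Algebra.FinitePresentation A B]
    [Module.Flat A B] [AddCommGroup M] [Module B M] [Module A M] [IsScalarTower A B M]
    [Module.FinitePresentation B M] [Module.Flat A M] :
    ∃ (S : Subalgebra ℤ A) (C : Type u) (_ : CommRing C) (_ : Algebra S C) (_ : Algebra C B)
      (_ : IsScalarTower S C B) (M₂ : Type u) (_ : AddCommGroup M₂) (_ : Module C M₂) (_ : Module S M₂)
      (_ : IsScalarTower S C M₂),
      IsNoetherianRing S ∧ Algebra.FiniteType S C ∧ Module.Flat S C ∧ Module.Finite C M₂ ∧ Module.Flat S M₂ ∧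
        Algebra.IsPushout S A C B ∧ Nonempty (M ≃ₗ[B] B ⊗[C] M₂) := by
  obtain ⟨S, n, π, a, I, N, ε, hS, hπ, hker, hI, hN, hkill, hε⟩ := exists_data A B M
  haveI := hS
  obtain ⟨C, i1, i2, i3, i4, M₂, j1, j2, j3, j4, h1, h2, h3, h4, h5, h6⟩ :=
    exists_model_of_quotient π hπ I hker hI N hN hkill ε hε
  exact ⟨S, C, i1, i2, i3, i4, M₂, j1, j2, j3, j4, hS, h1, h2, h3, h4, h5, h6⟩

end Groth.Agent.FibPdLib
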