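import Mathlib
import Groth.Agent.FibPdLib.Model

/-!
# Openness of bounds on the projective dimension of the fibres of a flat module
-/

set_option autoImplicit false
set_option linter.style.haveILetI false
set_option backward.isDefEq.respectTransparency false
set_option linter.unusedSectionVars false

universe u

open CategoryTheory TensorProduct IsLocalRing Groth.Agent.FibreDepth

namespace Groth.Agent.FibPdLib

attribute [local instance] Algebra.TensorProduct.rightAlgebra

/-- Localization of a flat module is flat over the base. -/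
theorem flat_localized {S C : Type u} [CommRing S] [CommRing C] [Algebra S C] (T : Submonoid C) (M : Type u)
    [AddCommGroup M] [Module S M] [Module C M] [IsScalarTower S C M] [Module.Flat S M] :
    Module.Flat S (LocalizedModule T M) := by
  rw [Module.Flat.iff_lTensor_injectiveₛ]
  intro P _ _ Q
  have h : Function.Injective (AlgebraTensorModule.lTensor C M Q.subtype) := by
    rw [AlgebraTensorModule.coe_lTensor]
    exact Module.Flat.lTensor_preserves_injective_linearMap Q.subtype Q.subtype_injective
  have h' := IsLocalizedModule.map_injective T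
    (AlgebraTensorModule.rTensor S Q (LocalizedModule.mkLinearMap T M))
    (AlgebraTensorModule.rTensor S P (LocalizedModule.mkLinearMap T M)) _ h
  rw [← AlgebraTensorModule.coe_lTensor (A := C)]
  simpa [IsLocalizedModule.map_lTensor] using h'

/-- Openness of the fibrewise bound. -/
theorem isOpen_pdLE (A B M : Type u) [CommRing A] [CommRing B] [Algebra A B] [Algebra.FinitePresentation A B]
    [Module.Flat A B] [AddCommGroup M] [Module B M] [Module A M] [IsScalarTower A B M]
    [Module.FinitePresentation B M] [Module.Flat A M] (e : ℕ) :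
    IsOpen {q : PrimeSpectrum B | PdLE B (FibRing A q) M e} := by
  obtain ⟨S, C, _, _, _, _, M₂, _, _, _, _, hS, hC, hflatC, hfin, hflat, hpush, ⟨ε⟩⟩ := exists_model A B M
  haveI := hS
  haveI := hC
  haveI := hflatC
  haveI := hfin
  haveI := hflat
  haveI := hpush
  have key : {q : PrimeSpectrum B | PdLE B (FibRing A q) M e} =
      PrimeSpectrum.comap (algebraMap C B) ⁻¹' PdSet S C M₂ e := by
    ext q
    have h := (pdLE_congr (FibRing A q) ε e).trans
      (fibMod_baseChange (A := S) (A' := A) M₂ q (PrimeSpectrum.comap (algebraMap C B) q) rfl e).1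
    exact ⟨fun hq => ⟨flat_localized _ M₂, h.1 hq⟩, fun hq => h.2 hq.2⟩
  rw [key]
  exact (isOpen_pdSet e M₂).preimage (PrimeSpectrum.continuous_comap _)

/-- Invariance under an isomorphism of the coefficient rings. -/
theorem pdLE_iff_of_bijective {P R R' : Type u} [CommRing P] [CommRing R] [IsLocalRing R] [IsNoetherianRing R]
    [CommRing R'] [Algebra P R] [Algebra P R'] (φ : R →ₐ[P] R') (hφ : Function.Bijective φ)
    (M : Type u) [AddCommGroup M] [Module P M] [Module.Finite P M] (e : ℕ) :
    PdLE P R' M e ↔ PdLE P R M e := by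
  letI : Algebra R R' := φ.toRingHom.toAlgebra
  haveI : IsScalarTower P R R' := .of_algebraMap_eq fun b => (φ.commutes b).symm
  haveI : Nontrivial R' := hφ.1.nontrivial
  haveI : IsLocalRing R' := IsLocalRing.of_surjective' φ.toRingHom hφ.2
  haveI : IsNoetherianRing R' := isNoetherianRing_of_surjective R R' φ.toRingHom hφ.2
  haveI : IsLocalHom (algebraMap R R') :=
    ⟨fun a ha => (isUnit_map_iff (RingEquiv.ofBijective φ.toRingHom hφ) a).1 ha⟩
  haveI : Module.Flat R R' := RingHom.flat_algebraMap_iff.1 (RingHom.Flat.of_bijective hφ)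
  let ee : R' ⊗[P] M ≃ₗ[R'] R' ⊗[R] (R ⊗[P] M) :=
    (AlgebraTensorModule.cancelBaseChange P R R' R' M).symm
  unfold PdLE
  rw [← projDimLT_baseChange_iff (R := R) (R' := R') (N := R ⊗[P] M) e]
  exact ⟨fun _ => hasProjectiveDimensionLT_of_iso ee.toModuleIso _,
    fun _ => hasProjectiveDimensionLT_of_iso ee.symm.toModuleIso _⟩

/-- Openness of the vanishing of the fibre. -/
theorem isOpen_subsingleton {B : Type u} [CommRing B] (M : Type u) [AddCommGroup M] [Module B M] [Module.Finite B M]
    (R : PrimeSpectrum B → Type u) [∀ q, CommRing (R q)] [∀ q, Algebra B (R q)]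
    (hunit : ∀ q, ∀ s ∉ q.asIdeal, IsUnit (algebraMap B (R q) s))
    (ρ : ∀ q, R q →ₐ[B] q.asIdeal.ResidueField) :
    IsOpen {q : PrimeSpectrum B | Subsingleton (R q ⊗[B] M)} := by
  have key : {q : PrimeSpectrum B | Subsingleton (R q ⊗[B] M)} = (Module.support B M)ᶜ := by
    ext q
    rw [Set.mem_compl_iff, Module.mem_support_iff_nontrivial_residueField_tensorProduct, not_nontrivial_iff_subsingleton]
    constructor
    · intro h
      haveI : Subsingleton (R q ⊗[B] M) := h
      have hsurj : Function.Surjective ((ρ q).toLinearMap) := fun z => by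
        obtain ⟨b, s, hs, rfl⟩ := IsFractionRing.div_surjective (A := B ⧸ q.asIdeal) z
        obtain ⟨b, rfl⟩ := Ideal.Quotient.mk_surjective b
        obtain ⟨s, rfl⟩ := Ideal.Quotient.mk_surjective s
        have hs' : s ∉ q.asIdeal := fun h0 => nonZeroDivisors.ne_zero hs (Ideal.Quotient.eq_zero_iff_mem.2 h0)
        refine ⟨algebraMap B (R q) b * ↑(hunit q s hs').unit⁻¹, ?_⟩
        show ρ q _ = _
        rw [map_mul, AlgHom.commutes, eq_div_iff (fun h0 => hs' ?_)]
        · rw [mul_assoc, show ((algebraMap (B ⧸ q.asIdeal) q.asIdeal.ResidueField) (Ideal.Quotient.mk q.asIdeal s)) =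
            ρ q (algebraMap B (R q) s) by rw [AlgHom.commutes]; rfl, ← map_mul, IsUnit.val_inv_mul, map_one, mul_one]
          rfl
        · rw [← Ideal.algebraMap_residueField_eq_zero]; exact h0
      exact (LinearMap.rTensor_surjective M hsurj).subsingleton
    · intro h
      obtain ⟨r, hr, hrM⟩ : ∃ r ∉ q.asIdeal, ∀ m : M, r • m = 0 := by
        have hq : q ∉ Module.support B M := by
          rw [Module.mem_support_iff_nontrivial_residueField_tensorProduct, not_nontrivial_iff_subsingleton]; exact h
        rw [Module.support_eq_zeroLocus] at hq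
        obtain ⟨r, hr1, hr2⟩ := Set.not_subset.1 hq
        exact ⟨r, hr2, Module.mem_annihilator.1 hr1⟩
      refine subsingleton_of_forall_eq 0 fun z => ?_
      refine ((hunit q r hr).smul_eq_zero).1 ?_
      rw [algebraMap_smul]
      induction z using TensorProduct.induction_on with
      | zero => simp
      | tmul x m => rw [← TensorProduct.tmul_smul, hrM, TensorProduct.tmul_zero]
      | add x y hx hy => rw [smul_add, hx, hy, add_zero]
  rw [key]
  exact (Module.isClosed_support).isOpen_compl

/-- The local ring of the fibre maps to the residue field. -/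
theorem exists_residueMap {A B : Type u} [CommRing A] [CommRing B] [Algebra A B] (q : PrimeSpectrum B) :
    Nonempty (FibRing A q →ₐ[B] q.asIdeal.ResidueField) := by
  obtain ⟨φ, hφ, hker⟩ := exists_surjective_fibRing (A := A) q
  let r : Localization.AtPrime q.asIdeal →ₐ[B] q.asIdeal.ResidueField :=
    IsScalarTower.toAlgHom B (Localization.AtPrime q.asIdeal) q.asIdeal.ResidueField
  refine ⟨(Ideal.Quotient.liftₐ (RingHom.ker φ.toRingHom) r fun z hz => ?_).comp
    (Ideal.quotientKerAlgEquivOfSurjective hφ).symm.toAlgHom⟩
  have h1 : RingHom.ker φ.toRingHom ≠ ⊤ := RingHom.ker_ne_top _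
  exact (IsLocalRing.residue_eq_zero_iff z).2 (IsLocalRing.le_maximalIdeal h1 hz)

/-- The ring of the statement. -/
theorem exists_bijective_fibRing (A B : Type u) [CommRing A] [CommRing B] [Algebra A B] (q : PrimeSpectrum B) :
    ∃ φ : FibRing A q →ₐ[B]
      (Localization.AtPrime q.asIdeal ⧸ (q.asIdeal.under A).map (algebraMap A (Localization.AtPrime q.asIdeal))),
      Function.Bijective φ := by
  obtain ⟨φ, hφ, hker⟩ := exists_surjective_fibRing (A := A) q
  let e := (Ideal.quotientEquivAlgOfEq B hker.symm).trans (Ideal.quotientKerAlgEquivOfSurjective hφ)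
  exact ⟨e.symm.toAlgHom, e.symm.bijective⟩

/-- Upper semicontinuity of the fibrewise projective dimension. -/
theorem upperSemicontinuous_fibre_pd (A B M : Type u) [CommRing A] [CommRing B] [Algebra A B]
    [Algebra.FinitePresentation A B] [Module.Flat A B] [AddCommGroup M] [Module B M] [Module A M] [IsScalarTower A B M]
    [Module.FinitePresentation B M] [Module.Flat A M]
    (f : PrimeSpectrum B → WithBot ℕ∞)
    (hf : ∀ q, f q = projectiveDimension (ModuleCat.of
      (Localization.AtPrime q.asIdeal ⧸ (q.asIdeal.under A).map (algebraMap A (Localization.AtPrime q.asIdeal)))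
      ((Localization.AtPrime q.asIdeal ⧸ (q.asIdeal.under A).map (algebraMap A (Localization.AtPrime q.asIdeal))) ⊗[B] M))) :
    UpperSemicontinuous f := by
  choose φ hφ using exists_bijective_fibRing A B
  have hle : ∀ (q : PrimeSpectrum B) (n : ℕ), f q < ((n + 1 : ℕ) : WithBot ℕ∞) ↔ PdLE B (FibRing A q) M n :=
    fun q n => by
      rw [hf, projectiveDimension_lt_iff]
      exact pdLE_iff_of_bijective (φ q) (hφ q) M n
  have hbot : ∀ q : PrimeSpectrum B, f q < ((0 : ℕ) : WithBot ℕ∞) ↔ Subsingleton (FibRing A q ⊗[B] M) := fun q => by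
    rw [hf, projectiveDimension_lt_iff, hasProjectiveDimensionLT_zero_iff_isZero, ModuleCat.isZero_iff_subsingleton]
    exact (TensorProduct.congr (AlgEquiv.ofBijective (φ q) (hφ q)).toLinearEquiv.symm
      (LinearEquiv.refl B M)).toEquiv.subsingleton_congr
  have ho : ∀ n : ℕ, IsOpen {q | f q < (n : WithBot ℕ∞)} := fun n => by
    obtain _ | n := n
    · simp only [hbot]
      refine @isOpen_subsingleton B _ M _ _ _ (fun q => FibRing A q) (fun q => inferInstance) (fun q => inferInstance)
        (fun q s hs => isUnit_algebraMap_fibRing q s hs) fun q => (exists_residueMap (A := A) q).some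
    · simp only [hle]
      exact isOpen_pdLE A B M n
  rw [upperSemicontinuous_iff_isOpen_preimage]
  intro y
  induction y with
  | bot => simp
  | coe y =>
    induction y with
    | top =>
      have : f ⁻¹' Set.Iio ⊤ = ⋃ n : ℕ, {q | f q < (n : WithBot ℕ∞)} := by
        ext q
        simp only [Set.mem_preimage, Set.mem_Iio, Set.mem_iUnion]
        refine ⟨fun h => ?_, fun ⟨n, h⟩ => lt_of_lt_of_le h le_top⟩
        show ∃ n : ℕ, f q < (n : WithBot ℕ∞)
        generalize f q = x at h ⊢
        induction x with
        | bot => exact ⟨0, WithBot.bot_lt_coe _⟩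
        | coe x =>
          induction x with
          | top => exact absurd h (lt_irrefl _)
          | coe x => exact ⟨x + 1, WithBot.coe_lt_coe.2 (by exact_mod_cast Nat.lt_succ_self x)⟩
      rw [WithBot.coe_top, this]
      exact isOpen_iUnion ho
    | coe n => exact ho n

end Groth.Agent.FibPdLib
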